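import Groth.Agent.ModPerm.Restr
import Groth.Agent.ModSiteFree.Basic

/-!
Maps out of restrictions of free modules: compatible families.
-/

set_option backward.isDefEq.respectTransparency false
set_option backward.isDefEq.respectTransparency.types false
set_option autoImplicit false

universe u

namespace Groth.Agent.ModPerm

open CategoryTheory Limits Opposite

variable {C : Type u} [SmallCategory C] {J : GrothendieckTopology C} (O : Sheaf J CommRingCat.{u}) (U X : C)

/-- the sheafified free module on `X` -/
noncomputable abbrev FY : ModSite.Mod O :=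
  (ModSite.sheafify O).obj ((PresheafOfModules.free (ModSite.ringSh O).obj).obj (yoneda.obj X))

/-- its generator -/
noncomputable def gen : ModSite.sect (FY O X) X :=
  (ModSiteFree.freeSheafifyCorep O X).homEquiv (𝟙 _)

/-- compatible families on pairs of maps into `U` and `X` -/
abbrev Fam (G : ModSite.Mod (O.over U)) : Type u :=
  ((Over.forget U).op ⋙ yoneda.obj X) ⟶ G.val.presheaf ⋙ forget AddCommGrpCat.{u}

variable {O U X}

/-- the family of a map -/
noncomputable def famOf {G : ModSite.Mod (O.over U)} (a : (ModSite.restr O U).obj (FY O X) ⟶ G) : Fam O U X G where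
  app H := ↾fun k => a.val.app H ((FY O X).val.map k.op (gen O X))
  naturality H H' t := by
    ext k
    change a.val.app H' ((FY O X).val.map (t.unop.left ≫ k).op (gen O X)) =
      G.val.map t (a.val.app H ((FY O X).val.map k.op (gen O X)))
    rw [← PresheafOfModules.naturality_apply a.val t]
    refine congrArg _ ?_
    exact PresheafOfModules.map_comp_apply _ k.op t.unop.left.op _

theorem bijective_famOf (G : ModSite.Mod (O.over U)) :
    Function.Bijective (famOf (O := O) (U := U) (X := X) (G := G)) := by
  let P := (PresheafOfModules.free (ModSite.ringSh O).obj).obj (yoneda.obj X)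
  let adjU := PresheafOfModules.sheafificationAdjunction.{u} (R := ModSite.ringSh (O.over U))
    (𝟙 (ModSite.ringSh (O.over U)).obj)
  let Φ : ((ModSite.restr O U).obj (FY O X) ⟶ G) ≃
      ((PresheafOfModules.free (ModSite.ringSh (O.over U)).obj).obj ((Over.forget U).op ⋙ yoneda.obj X) ⟶ G.val) :=
    ((restrShIso O U P).symm.homFromEquiv.trans (adjU.homEquiv _ G)).trans
      ((PresheafOfModules.isoMk (fun _ => Iso.refl _) : (ModSiteExt.res O.obj U).obj P ≅
        (PresheafOfModules.free (ModSite.ringSh (O.over U)).obj).obj ((Over.forget U).op ⋙ yoneda.obj X)).homFromEquiv)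
  suffices h : ∀ a, famOf a = (Φ.trans PresheafOfModules.freeHomEquiv) a by
    rw [funext h]
    exact (Φ.trans PresheafOfModules.freeHomEquiv).bijective
  intro a
  ext H k
  change a.val.app H ((FY O X).val.map k.op (gen O X)) = ((Φ a).app H) (ModuleCat.freeMk k)
  have h1 : adjU.homEquiv _ G ((restrShIso O U P).hom ≫ a) =
      (ModSiteExt.res O.obj U).map (ModSiteTensor.η O P) ≫ a.val := by
    rw [adjU.homEquiv_naturality_right]
    refine congrArg (· ≫ a.val) ?_
    refine (congrArg (adjU.homEquiv _ _) (?_ : (restrShIso O U P).hom =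
      (adjU.homEquiv _ _).symm ((ModSiteExt.res O.obj U).map (ModSiteTensor.η O P)))).trans (Equiv.apply_symm_apply _ _)
    rw [adjU.homEquiv_counit]
    rfl
  have h2 : (Φ a).app H (ModuleCat.freeMk k) =
      ((ModSiteExt.res O.obj U).map (ModSiteTensor.η O P) ≫ a.val).app H (ModuleCat.freeMk k) := by
    rw [← h1]
    rfl
  rw [h2]
  change _ = a.val.app H ((ModSiteTensor.η O P).app (op H.unop.left) (ModuleCat.freeMk k))
  refine congrArg _ ?_
  have h3 := PresheafOfModules.naturality_apply (ModSiteTensor.η O P) k.op (ModuleCat.freeMk (𝟙 X))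
  have h4 : P.map k.op (ModuleCat.freeMk (𝟙 X)) = ModuleCat.freeMk k := by
    refine (ModuleCat.freeDesc_apply _ _).trans ?_
    change ModuleCat.freeMk (k ≫ 𝟙 X) = _
    rw [Category.comp_id]
  rw [h4] at h3
  exact h3.symm

end Groth.Agent.ModPerm
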