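import Groth.Agent.ModPerm.Restr
import Groth.Agent.InvSite.Basic
import Groth.Agent.ModSiteFlat.PushColim
import Mathlib.Algebra.Category.ModuleCat.Sheaf.LocallyFree

/-!
Tensor products keep local generators, finite type, quasi-coherence, finite presentation, local freeness.
-/

set_option backward.isDefEq.respectTransparency false
set_option backward.isDefEq.respectTransparency.types false
set_option linter.style.haveILetI false
set_option autoImplicit false
set_option maxHeartbeats 1000000

universe u

open CategoryTheory Limits Opposite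

namespace Groth.Agent.ModPerm

variable {C : Type u} [SmallCategory C] {J : GrothendieckTopology C} {O : Sheaf J CommRingCat.{u}}

/-- free modules -/
noncomputable abbrev fr (O : Sheaf J CommRingCat.{u}) (A : Type u) : ModSite.Mod O :=
  SheafOfModules.free (R := ModSite.ringSh O) A

variable (O) in
lemma preservesCoproducts (M : ModSite.Mod O) (A : Type u) :
    PreservesColimitsOfShape (Discrete A) ((ModSite.tensorBi O).obj M) ∧
      PreservesColimitsOfShape (Discrete A) ((ModSite.tensorBi O).flip.obj M) := by
  haveI := ModSiteTensor.preservesColimits_tensorBi_obj O M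
  haveI := ModSiteTensor.preservesColimits_tensorBi_flip_obj O M
  exact ⟨inferInstance, inferInstance⟩

variable (O) in
/-- `M ⊗ free B ≅ ⊕_B M` -/
noncomputable def tensorFreeIso (M : ModSite.Mod O) (B : Type u) :
    ((ModSite.tensorBi O).obj M).obj (fr O B) ≅ ∐ fun _ : B => M :=
  haveI := (preservesCoproducts O M B).1
  PreservesCoproduct.iso ((ModSite.tensorBi O).obj M) (fun _ : B => ModSite.unit O) ≪≫
    Sigma.mapIso fun _ => (HDU.tensorUnitIso O).app M

variable (O) in
/-- free modules tensor to free modules -/
noncomputable def freeTensorIso (A B : Type u) :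
    ((ModSite.tensorBi O).obj (fr O A)).obj (fr O B) ≅ fr O (A × B) :=
  tensorFreeIso O (fr O A) B ≪≫
    @sigmaSigmaIso _ _ _ (fun _ : B => A) (fun _ _ => ModSite.unit O) (fun _ => inferInstance) inferInstance ≪≫
    Sigma.whiskerEquiv (f := fun _ : (_ : B) × A => ModSite.unit O) (g := fun _ : A × B => ModSite.unit O)
      (((Equiv.sigmaEquivProd B A).trans (Equiv.prodComm B A))) (fun _ => Iso.refl _)

section Exact

variable {F₁ F₀ M G₁ G₀ N : ModSite.Mod O} (r : F₁ ⟶ F₀) (p : F₀ ⟶ M) (s : G₁ ⟶ G₀) (q : G₀ ⟶ N)

/-- the tensor of two maps -/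
noncomputable def tmap : ((ModSite.tensorBi O).obj F₀).obj G₀ ⟶ ((ModSite.tensorBi O).obj M).obj N :=
  ((ModSite.tensorBi O).map p).app G₀ ≫ ((ModSite.tensorBi O).obj M).map q

lemma preserves_right (X : ModSite.Mod O) :
    PreservesFiniteColimits ((ModSite.tensorBi O).obj X) ∧ PreservesFiniteColimits ((ModSite.tensorBi O).flip.obj X) :=
  ⟨KFlat.preservesFiniteColimits_left O X,
    KFlat.exact_flip_of_rightExact (KFlat.braid O) (KFlat.preservesFiniteColimits_left O) X⟩

instance epi_tmap [Epi p] [Epi q] : Epi (tmap p q) := by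
  haveI := (preserves_right (O := O) M).1
  haveI := (preserves_right (O := O) G₀).2
  haveI : Epi (((ModSite.tensorBi O).map p).app G₀) :=
    inferInstanceAs (Epi (((ModSite.tensorBi O).flip.obj G₀).map p))
  unfold tmap
  infer_instance

lemma map_zero_left (X : ModSite.Mod O) {Y Z : ModSite.Mod O} : ((ModSite.tensorBi O).obj X).map (0 : Y ⟶ Z) = 0 := by
  haveI := (preserves_right (O := O) X).1
  haveI : PreservesBinaryBiproducts ((ModSite.tensorBi O).obj X) := preservesBinaryBiproducts_of_preservesBinaryCoproducts _
  haveI := Functor.additive_of_preservesBinaryBiproducts ((ModSite.tensorBi O).obj X)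
  exact Functor.map_zero _ _ _

lemma map_zero_right (X : ModSite.Mod O) {Y Z : ModSite.Mod O} :
    ((ModSite.tensorBi O).map (0 : Y ⟶ Z)).app X = 0 := by
  haveI := (preserves_right (O := O) X).2
  haveI : PreservesBinaryBiproducts ((ModSite.tensorBi O).flip.obj X) := preservesBinaryBiproducts_of_preservesBinaryCoproducts _
  haveI := Functor.additive_of_preservesBinaryBiproducts ((ModSite.tensorBi O).flip.obj X)
  exact Functor.map_zero ((ModSite.tensorBi O).flip.obj X) _ _

variable (hr : r ≫ p = 0) (hs : s ≫ q = 0)

include hr in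
lemma left_tmap : ((ModSite.tensorBi O).map r).app G₀ ≫ tmap p q = 0 := by
  rw [tmap, ← Category.assoc, ← NatTrans.comp_app, ← Functor.map_comp, hr, map_zero_right, zero_comp]

include hs in
lemma right_tmap : ((ModSite.tensorBi O).obj F₀).map s ≫ tmap p q = 0 := by
  rw [tmap, NatTrans.naturality_assoc, ← Functor.map_comp, hs, map_zero_left, comp_zero]

/-- cokernels tensor to cokernels -/
lemma exists_desc (hp : IsColimit (CokernelCofork.ofπ p hr)) (hq : IsColimit (CokernelCofork.ofπ q hs))
    {Z : ModSite.Mod O} (t : ((ModSite.tensorBi O).obj F₀).obj G₀ ⟶ Z)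
    (h₁ : ((ModSite.tensorBi O).map r).app G₀ ≫ t = 0) (h₂ : ((ModSite.tensorBi O).obj F₀).map s ≫ t = 0) :
    ∃ u : ((ModSite.tensorBi O).obj M).obj N ⟶ Z, tmap p q ≫ u = t := by
  haveI := (preserves_right (O := O) G₀).2
  haveI := (preserves_right (O := O) M).1
  haveI := (preserves_right (O := O) G₁).2
  haveI : Epi p := Cofork.IsColimit.epi hp
  have c₁ := CokernelCofork.mapIsColimit (c := CokernelCofork.ofπ p hr) hp ((ModSite.tensorBi O).flip.obj G₀)
  obtain ⟨t', ht'⟩ := CokernelCofork.IsColimit.desc' c₁ t h₁
  have ht : ((ModSite.tensorBi O).map p).app G₀ ≫ t' = t := ht'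
  haveI : Epi (((ModSite.tensorBi O).map p).app G₁) :=
    inferInstanceAs (Epi (((ModSite.tensorBi O).flip.obj G₁).map p))
  have h₃ : ((ModSite.tensorBi O).obj M).map s ≫ t' = 0 := by
    rw [← cancel_epi (((ModSite.tensorBi O).map p).app G₁), comp_zero, ← Category.assoc, ← NatTrans.naturality,
      Category.assoc, ht, h₂]
  have c₂ := CokernelCofork.mapIsColimit (c := CokernelCofork.ofπ q hs) hq ((ModSite.tensorBi O).obj M)
  obtain ⟨u, hu⟩ := CokernelCofork.IsColimit.desc' c₂ t' h₃
  refine ⟨u, ?_⟩
  rw [tmap, Category.assoc, show ((ModSite.tensorBi O).obj M).map q ≫ u = t' from hu, ht]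

end Exact

/-- generating sections from an epimorphism out of a free module -/
noncomputable def genOfEpi {M : ModSite.Mod O} {A : Type u} (p : fr O A ⟶ M) [Epi p] :
    SheafOfModules.GeneratingSections (R := ModSite.ringSh O) M where
  I := A
  s := SheafOfModules.freeHomEquiv (R := ModSite.ringSh O) M p
  epi := by
    rw [Equiv.symm_apply_apply]
    infer_instance

/-- the relations of a tensor product of presentations -/
noncomputable def relMap {M N : ModSite.Mod O} (P : SheafOfModules.Presentation (R := ModSite.ringSh O) M)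
    (Q : SheafOfModules.Presentation (R := ModSite.ringSh O) N) :
    fr O ((P.relations.I × Q.generators.I) ⊕ (P.generators.I × Q.relations.I)) ⟶
      ((ModSite.tensorBi O).obj (fr O P.generators.I)).obj (fr O Q.generators.I) :=
  Cofan.IsColimit.desc (SheafOfModules.isColimitFreeCofan _) fun k => k.elim
    (fun a => SheafOfModules.ιFree a ≫ (freeTensorIso O _ _).inv ≫
      ((ModSite.tensorBi O).map (P.relations.π ≫ kernel.ι P.generators.π)).app (fr O Q.generators.I))
    (fun b => SheafOfModules.ιFree b ≫ (freeTensorIso O _ _).inv ≫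
      ((ModSite.tensorBi O).obj (fr O P.generators.I)).map (Q.relations.π ≫ kernel.ι Q.generators.π))

lemma relMap_comp {M N Z : ModSite.Mod O} (P : SheafOfModules.Presentation (R := ModSite.ringSh O) M)
    (Q : SheafOfModules.Presentation (R := ModSite.ringSh O) N)
    (t : ((ModSite.tensorBi O).obj (fr O P.generators.I)).obj (fr O Q.generators.I) ⟶ Z) :
    relMap P Q ≫ t = 0 ↔
      ((ModSite.tensorBi O).map (P.relations.π ≫ kernel.ι P.generators.π)).app (fr O Q.generators.I) ≫ t = 0 ∧
        ((ModSite.tensorBi O).obj (fr O P.generators.I)).map (Q.relations.π ≫ kernel.ι Q.generators.π) ≫ t = 0 := by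
  have fac : ∀ k, SheafOfModules.ιFree k ≫ relMap P Q = _ := fun k => Cofan.IsColimit.fac _ _ k
  constructor
  · intro h
    constructor
    · refine (cancel_epi (freeTensorIso O _ _).inv).1 (Cofan.IsColimit.hom_ext (SheafOfModules.isColimitFreeCofan _) _ _ fun a => ?_)
      have := (reassoc_of% fac (Sum.inl a)) t
      rw [h, comp_zero] at this
      simpa using! this.symm
    · refine (cancel_epi (freeTensorIso O _ _).inv).1 (Cofan.IsColimit.hom_ext (SheafOfModules.isColimitFreeCofan _) _ _ fun a => ?_)
      have := (reassoc_of% fac (Sum.inr a)) t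
      rw [h, comp_zero] at this
      simpa using! this.symm
  · rintro ⟨h₁, h₂⟩
    refine Cofan.IsColimit.hom_ext (SheafOfModules.isColimitFreeCofan _) _ _ fun k => ?_
    change SheafOfModules.ιFree k ≫ relMap P Q ≫ t = SheafOfModules.ιFree k ≫ 0
    rw [reassoc_of% fac k, comp_zero]
    rcases k with a | b
    · simp only [Sum.elim_inl, Category.assoc]
      rw [h₁, comp_zero, comp_zero]
    · simp only [Sum.elim_inr, Category.assoc]
      rw [h₂, comp_zero, comp_zero]

lemma relMap_tmap {M N : ModSite.Mod O} (P : SheafOfModules.Presentation (R := ModSite.ringSh O) M)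
    (Q : SheafOfModules.Presentation (R := ModSite.ringSh O) N) :
    relMap P Q ≫ tmap P.generators.π Q.generators.π = 0 :=
  (relMap_comp P Q _).2 ⟨left_tmap _ _ _ (by simp), right_tmap _ _ _ (by simp)⟩

/-- tensor of generating sections -/
noncomputable def genTensor {M N : ModSite.Mod O} (P : SheafOfModules.GeneratingSections (R := ModSite.ringSh O) M)
    (Q : SheafOfModules.GeneratingSections (R := ModSite.ringSh O) N) :
    SheafOfModules.GeneratingSections (R := ModSite.ringSh O) (((ModSite.tensorBi O).obj M).obj N) :=
  genOfEpi ((freeTensorIso O P.I Q.I).inv ≫ tmap P.π Q.π)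

instance finite_genTensor {M N : ModSite.Mod O} (P : SheafOfModules.GeneratingSections (R := ModSite.ringSh O) M)
    (Q : SheafOfModules.GeneratingSections (R := ModSite.ringSh O) N) [P.IsFiniteType] [Q.IsFiniteType] :
    (genTensor P Q).IsFiniteType where
  finite := inferInstanceAs (Finite (P.I × Q.I))

lemma isIso_genTensor {M N : ModSite.Mod O} (P : SheafOfModules.GeneratingSections (R := ModSite.ringSh O) M)
    (Q : SheafOfModules.GeneratingSections (R := ModSite.ringSh O) N) [IsIso P.π] [IsIso Q.π] :
    IsIso (genTensor P Q).π := by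
  have e : (genTensor P Q).π = (freeTensorIso O P.I Q.I).inv ≫ tmap P.π Q.π :=
    (SheafOfModules.freeHomEquiv (R := ModSite.ringSh O) _).symm_apply_apply _
  rw [e, tmap]
  infer_instance

/-- tensor of presentations -/
noncomputable def presTensor {M N : ModSite.Mod O} (P : SheafOfModules.Presentation (R := ModSite.ringSh O) M)
    (Q : SheafOfModules.Presentation (R := ModSite.ringSh O) N) :
    SheafOfModules.Presentation (R := ModSite.ringSh O) (((ModSite.tensorBi O).obj M).obj N) :=
  SheafOfModules.presentationOfIsCokernelFree (relMap P Q ≫ (freeTensorIso O _ _).hom)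
    ((freeTensorIso O _ _).inv ≫ tmap P.generators.π Q.generators.π)
    (by rw [Category.assoc, Iso.hom_inv_id_assoc, relMap_tmap])
    (CokernelCofork.IsColimit.ofπ _ _
      (fun {Z} t ht => (exists_desc _ _ _ _ _ _ P.isColimit Q.isColimit ((freeTensorIso O _ _).hom ≫ t)
        ((relMap_comp P Q _).1 (by rw [← Category.assoc]; exact ht)).1
        ((relMap_comp P Q _).1 (by rw [← Category.assoc]; exact ht)).2).choose)
      (fun {Z} t ht => by
        rw [Category.assoc, (exists_desc _ _ _ _ _ _ P.isColimit Q.isColimit ((freeTensorIso O _ _).hom ≫ t)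
          ((relMap_comp P Q _).1 (by rw [← Category.assoc]; exact ht)).1
          ((relMap_comp P Q _).1 (by rw [← Category.assoc]; exact ht)).2).choose_spec, Iso.inv_hom_id_assoc])
      (fun {Z} t ht m hm => by
        rw [← cancel_epi (tmap P.generators.π Q.generators.π), (exists_desc _ _ _ _ _ _ P.isColimit Q.isColimit ((freeTensorIso O _ _).hom ≫ t)
          ((relMap_comp P Q _).1 (by rw [← Category.assoc]; exact ht)).1
          ((relMap_comp P Q _).1 (by rw [← Category.assoc]; exact ht)).2).choose_spec,
          ← cancel_epi (freeTensorIso O _ _).inv, Iso.inv_hom_id_assoc, ← Category.assoc, hm]))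

instance finite_presTensor {M N : ModSite.Mod O} (P : SheafOfModules.Presentation (R := ModSite.ringSh O) M)
    (Q : SheafOfModules.Presentation (R := ModSite.ringSh O) N) [P.IsFinite] [Q.IsFinite] :
    (presTensor P Q).IsFinite where
  isFiniteType_generators := ⟨inferInstanceAs (Finite (P.generators.I × Q.generators.I))⟩
  isFiniteType_relations := ⟨inferInstanceAs (Finite ((P.relations.I × Q.generators.I) ⊕ (P.generators.I × Q.relations.I)))⟩

section Restrict

variable (O) {U Z : C} (m : Z ⟶ U)

/-- further restriction -/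
noncomputable abbrev om : ModSite.Mod (O.over U) ⥤ ModSite.Mod (O.over Z) :=
  SheafOfModules.overMap.{u} (ModSite.ringSh O) m

instance colimits_om : PreservesColimitsOfSize.{u, u} (om O m) :=
  ModSiteFlat.preservesColimits_pushforward (F := Over.map m) _

/-- further restriction of a restriction -/
noncomputable def omRestr (F : ModSite.Mod O) :
    (om O m).obj ((ModSite.restr O U).obj F) ≅ (ModSite.restr O Z).obj F :=
  (SheafOfModules.fullyFaithfulForget _).preimageIso (PresheafOfModules.isoMk (fun _ => Iso.refl _))

/-- further restriction of the unit -/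
noncomputable def omUnit : ModSite.unit (O.over Z) ≅ (om O m).obj (ModSite.unit (O.over U)) :=
  (SheafOfModules.overMapUnitIso (R := ModSite.ringSh O) m).symm

variable {O}

/-- restricted generators -/
noncomputable def genRestr {F : ModSite.Mod O}
    (P : SheafOfModules.GeneratingSections (R := ModSite.ringSh (O.over U)) ((ModSite.restr O U).obj F)) :
    SheafOfModules.GeneratingSections (R := ModSite.ringSh (O.over Z)) ((ModSite.restr O Z).obj F) :=
  haveI : PreservesColimitsOfSize.{0, 0} (om O m) := preservesSmallestColimits_of_preservesColimits _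
  genOfEpi ((SheafOfModules.mapFreeIso (om O m) P.I (omUnit O m)).hom ≫ (om O m).map P.π ≫ (omRestr O m F).hom)

instance finite_genRestr {F : ModSite.Mod O}
    (P : SheafOfModules.GeneratingSections (R := ModSite.ringSh (O.over U)) ((ModSite.restr O U).obj F))
    [P.IsFiniteType] : (genRestr m P).IsFiniteType where
  finite := inferInstanceAs (Finite P.I)

lemma isIso_genRestr {F : ModSite.Mod O}
    (P : SheafOfModules.GeneratingSections (R := ModSite.ringSh (O.over U)) ((ModSite.restr O U).obj F))
    [IsIso P.π] : IsIso (genRestr m P).π := by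
  haveI : PreservesColimitsOfSize.{0, 0} (om O m) := preservesSmallestColimits_of_preservesColimits _
  have e : (genRestr m P).π = (SheafOfModules.mapFreeIso (om O m) P.I (omUnit O m)).hom ≫ (om O m).map P.π ≫
      (omRestr O m F).hom :=
    (SheafOfModules.freeHomEquiv (R := ModSite.ringSh (O.over Z)) _).symm_apply_apply _
  rw [e]
  infer_instance

/-- restricted presentation -/
noncomputable def presRestr {F : ModSite.Mod O}
    (P : SheafOfModules.Presentation (R := ModSite.ringSh (O.over U)) ((ModSite.restr O U).obj F)) :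
    SheafOfModules.Presentation (R := ModSite.ringSh (O.over Z)) ((ModSite.restr O Z).obj F) :=
  SheafOfModules.Presentation.ofIsIso (omRestr O m F).hom (P.map (om O m) (omUnit O m))

lemma finite_presRestr {F : ModSite.Mod O}
    (P : SheafOfModules.Presentation (R := ModSite.ringSh (O.over U)) ((ModSite.restr O U).obj F))
    [P.IsFinite] : (presRestr m P).IsFinite where
  isFiniteType_generators := ⟨inferInstanceAs (Finite P.generators.I)⟩
  isFiniteType_relations := ⟨inferInstanceAs (Finite P.relations.I)⟩

end Restrict

section Cover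

variable {F G : ModSite.Mod O} {ι κ : Type u} (X : ι → C) (Y : κ → C)

/-- common refinement of two covering families -/
abbrev Common : Type u := Σ i : ι, Σ j : κ, Σ Z : C, (Z ⟶ X i) × (Z ⟶ Y j)

lemma coversTop_common (hX : J.CoversTop X) (hY : J.CoversTop Y) :
    J.CoversTop (fun t : Common X Y => t.2.2.1) := fun W => by
  refine J.transitive (hX W) _ fun V g hg => ?_
  obtain ⟨i, ⟨a⟩⟩ := (Sieve.mem_ofObjects_iff ..).mp hg
  refine J.superset_covering (fun Z h hh => ?_) (hY V)
  obtain ⟨j, ⟨b⟩⟩ := (Sieve.mem_ofObjects_iff ..).mp hh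
  exact ⟨⟨i, j, Z, h ≫ a, b⟩, ⟨𝟙 Z⟩⟩

variable {X Y}

/-- generators of the restricted tensor product -/
noncomputable def genAt (t : Common X Y)
    (P : SheafOfModules.GeneratingSections (R := ModSite.ringSh (O.over (X t.1))) ((ModSite.restr O (X t.1)).obj F))
    (Q : SheafOfModules.GeneratingSections (R := ModSite.ringSh (O.over (Y t.2.1))) ((ModSite.restr O (Y t.2.1)).obj G)) :
    SheafOfModules.GeneratingSections (R := ModSite.ringSh (O.over t.2.2.1))
      ((ModSite.restr O t.2.2.1).obj (((ModSite.tensorBi O).obj F).obj G)) :=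
  (genTensor (genRestr t.2.2.2.1 P) (genRestr t.2.2.2.2 Q)).ofEpi (restrTensorIso O t.2.2.1 F G).inv

/-- presentation of the restricted tensor product -/
noncomputable def presAt (t : Common X Y)
    (P : SheafOfModules.Presentation (R := ModSite.ringSh (O.over (X t.1))) ((ModSite.restr O (X t.1)).obj F))
    (Q : SheafOfModules.Presentation (R := ModSite.ringSh (O.over (Y t.2.1))) ((ModSite.restr O (Y t.2.1)).obj G)) :
    SheafOfModules.Presentation (R := ModSite.ringSh (O.over t.2.2.1))
      ((ModSite.restr O t.2.2.1).obj (((ModSite.tensorBi O).obj F).obj G)) :=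
  SheafOfModules.Presentation.ofIsIso (restrTensorIso O t.2.2.1 F G).inv
    (presTensor (presRestr t.2.2.2.1 P) (presRestr t.2.2.2.2 Q))

end Cover

variable {F G : ModSite.Mod O}

/-- local generators of a tensor product -/
noncomputable def lgdTensor (p : SheafOfModules.LocalGeneratorsData.{u} (R := ModSite.ringSh O) F)
    (q : SheafOfModules.LocalGeneratorsData.{u} (R := ModSite.ringSh O) G) :
    SheafOfModules.LocalGeneratorsData.{u} (R := ModSite.ringSh O) (((ModSite.tensorBi O).obj F).obj G) where
  I := Common p.X q.X
  X t := t.2.2.1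
  coversTop := coversTop_common _ _ p.coversTop q.coversTop
  generators t := genAt t (p.generators t.1) (q.generators t.2.1)

lemma isFiniteType_lgdTensor (p : SheafOfModules.LocalGeneratorsData.{u} (R := ModSite.ringSh O) F)
    (q : SheafOfModules.LocalGeneratorsData.{u} (R := ModSite.ringSh O) G) (hp : p.IsFiniteType) (hq : q.IsFiniteType) :
    (lgdTensor p q).IsFiniteType where
  isFiniteType t := by
    haveI := (hp.isFiniteType t.1).finite
    haveI := (hq.isFiniteType t.2.1).finite
    exact ⟨inferInstanceAs (Finite ((p.generators t.1).I × (q.generators t.2.1).I))⟩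

lemma isLocallyFree_lgdTensor (p : SheafOfModules.LocalGeneratorsData.{u} (R := ModSite.ringSh O) F)
    (q : SheafOfModules.LocalGeneratorsData.{u} (R := ModSite.ringSh O) G) (hp : p.IsLocallyFreeData)
    (hq : q.IsLocallyFreeData) : (lgdTensor p q).IsLocallyFreeData where
  isIso t := by
    haveI : IsIso (p.generators t.1).π := hp.isIso t.1
    haveI : IsIso (q.generators t.2.1).π := hq.isIso t.2.1
    haveI := isIso_genRestr t.2.2.2.1 (p.generators t.1)
    haveI := isIso_genRestr t.2.2.2.2 (q.generators t.2.1)
    haveI := isIso_genTensor (genRestr t.2.2.2.1 (p.generators t.1)) (genRestr t.2.2.2.2 (q.generators t.2.1))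
    change IsIso ((genTensor _ _).ofEpi (restrTensorIso O t.2.2.1 F G).inv).π
    rw [SheafOfModules.GeneratingSections.ofEpi_π]
    infer_instance

/-- quasi-coherent data of a tensor product -/
noncomputable def qcdTensor (p : SheafOfModules.QuasicoherentData.{u} (R := ModSite.ringSh O) F)
    (q : SheafOfModules.QuasicoherentData.{u} (R := ModSite.ringSh O) G) :
    SheafOfModules.QuasicoherentData.{u} (R := ModSite.ringSh O) (((ModSite.tensorBi O).obj F).obj G) where
  I := Common p.X q.X
  X t := t.2.2.1
  coversTop := coversTop_common _ _ p.coversTop q.coversTop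
  presentation t := presAt t (p.presentation t.1) (q.presentation t.2.1)

lemma isFinitePresentation_qcdTensor (p : SheafOfModules.QuasicoherentData.{u} (R := ModSite.ringSh O) F)
    (q : SheafOfModules.QuasicoherentData.{u} (R := ModSite.ringSh O) G) (hp : p.IsFinitePresentation)
    (hq : q.IsFinitePresentation) : (qcdTensor p q).IsFinitePresentation where
  isFinite_presentation t := by
    haveI := hp.isFinite_presentation t.1
    haveI := hq.isFinite_presentation t.2.1
    haveI := finite_presRestr t.2.2.2.1 (p.presentation t.1)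
    haveI := finite_presRestr t.2.2.2.2 (q.presentation t.2.1)
    exact ⟨⟨inferInstanceAs (Finite ((p.presentation t.1).generators.I × (q.presentation t.2.1).generators.I))⟩,
      ⟨inferInstanceAs (Finite (((p.presentation t.1).relations.I × (q.presentation t.2.1).generators.I) ⊕
        ((p.presentation t.1).generators.I × (q.presentation t.2.1).relations.I)))⟩⟩

theorem tensor_permanence (F G : ModSite.Mod O) :
    (Nonempty (SheafOfModules.LocalGeneratorsData.{u} (R := ModSite.ringSh O) F) →
      Nonempty (SheafOfModules.LocalGeneratorsData.{u} (R := ModSite.ringSh O) G) →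
      Nonempty (SheafOfModules.LocalGeneratorsData.{u} (R := ModSite.ringSh O) (((ModSite.tensorBi O).obj F).obj G))) ∧
    (SheafOfModules.IsFiniteType (R := ModSite.ringSh O) F → SheafOfModules.IsFiniteType (R := ModSite.ringSh O) G →
      SheafOfModules.IsFiniteType (R := ModSite.ringSh O) (((ModSite.tensorBi O).obj F).obj G)) ∧
    (SheafOfModules.IsQuasicoherent (R := ModSite.ringSh O) F → SheafOfModules.IsQuasicoherent (R := ModSite.ringSh O) G →
      SheafOfModules.IsQuasicoherent (R := ModSite.ringSh O) (((ModSite.tensorBi O).obj F).obj G)) ∧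
    (SheafOfModules.IsFinitePresentation (R := ModSite.ringSh O) F →
      SheafOfModules.IsFinitePresentation (R := ModSite.ringSh O) G →
      SheafOfModules.IsFinitePresentation (R := ModSite.ringSh O) (((ModSite.tensorBi O).obj F).obj G)) ∧
    (SheafOfModules.IsLocallyFree (R := ModSite.ringSh O) F → SheafOfModules.IsLocallyFree (R := ModSite.ringSh O) G →
      SheafOfModules.IsLocallyFree (R := ModSite.ringSh O) (((ModSite.tensorBi O).obj F).obj G)) := by
  refine ⟨fun ⟨p⟩ ⟨q⟩ => ⟨lgdTensor p q⟩, fun h h' => ?_, fun h h' => ?_, fun h h' => ?_, fun h h' => ?_⟩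
  · obtain ⟨p, hp⟩ := h.exists_localGeneratorsData
    obtain ⟨q, hq⟩ := h'.exists_localGeneratorsData
    exact { exists_localGeneratorsData := ⟨lgdTensor p q, isFiniteType_lgdTensor p q hp hq⟩ }
  · obtain ⟨p⟩ := h.nonempty_quasicoherentData
    obtain ⟨q⟩ := h'.nonempty_quasicoherentData
    exact { nonempty_quasicoherentData := ⟨qcdTensor p q⟩ }
  · obtain ⟨p, hp⟩ := h.exists_quasicoherentData
    obtain ⟨q, hq⟩ := h'.exists_quasicoherentData
    exact { exists_quasicoherentData := ⟨qcdTensor p q, isFinitePresentation_qcdTensor p q hp hq⟩ }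
  · obtain ⟨p, hp⟩ := h.exists_isLocallyFreeData
    obtain ⟨q, hq⟩ := h'.exists_isLocallyFreeData
    exact { exists_isLocallyFreeData := ⟨lgdTensor p q, isLocallyFree_lgdTensor p q hp hq⟩ }

end Groth.Agent.ModPerm
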