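import Groth.Agent.ModSiteExt.Sheaf
import Groth.Agent.ModSiteTensor.Colimit
import Mathlib.CategoryTheory.Sites.PreservesLocallyBijective
import Mathlib.Algebra.Category.ModuleCat.Sheaf.Localization

/-!
Restriction to a slice commutes with sheafification and with tensor products.
-/

set_option backward.isDefEq.respectTransparency false
set_option backward.isDefEq.respectTransparency.types false
set_option linter.style.haveILetI false
set_option autoImplicit false
set_option maxHeartbeats 1000000

universe u

open CategoryTheory Limits Opposite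

namespace Groth.Agent.ModPerm

variable {C : Type u} [SmallCategory C] {J : GrothendieckTopology C} (O : Sheaf J CommRingCat.{u}) (U : C)

lemma isIso_sh_of_bijective {P Q : PresheafOfModules.{u} (O.obj ⋙ forget₂ CommRingCat.{u} RingCat.{u})}
    (φ : P ⟶ Q) (h₁ : Presheaf.IsLocallyInjective J ((PresheafOfModules.toPresheaf _).map φ))
    (h₂ : Presheaf.IsLocallySurjective J ((PresheafOfModules.toPresheaf _).map φ)) :
    IsIso ((ModSite.sheafify O).map φ) :=
  haveI := h₁
  haveI := h₂
  (PresheafOfModules.inverseImage_W_toPresheaf_eq_inverseImage_isomorphisms (R := ModSite.ringSh O)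
    (𝟙 (ModSite.ringSh O).obj)).le φ (@GrothendieckTopology.W_of_isLocallyBijective _ _ J _ _ _ _ _ _ _ _ _ _ h₁ h₂)

/-- restriction commutes with sheafification -/
noncomputable def restrShIso (P : ModSiteExt.PM O.obj) :
    (ModSite.sheafify (O.over U)).obj ((ModSiteExt.res O.obj U).obj P) ≅
      (ModSite.restr O U).obj ((ModSiteExt.Sh O).obj P) :=
  let α : (ModSiteExt.res O.obj U).obj P ⟶
      (ModSiteExt.toPMOver O U).obj ((ModSite.restr O U).obj ((ModSiteExt.Sh O).obj P)) :=
    (ModSiteExt.res O.obj U).map (ModSiteTensor.η O P)
  haveI := ModSiteTensor.unit_locallyInjective O P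
  haveI := ModSiteTensor.unit_locallySurjective O P
  haveI : IsIso ((ModSite.sheafify (O.over U)).map α) :=
    isIso_sh_of_bijective (O.over U) α
      (Presheaf.isLocallyInjective_whisker (J.over U) J (Over.forget U) ((PresheafOfModules.toPresheaf _).map (ModSiteTensor.η O P)))
      (Presheaf.isLocallySurjective_whisker (J.over U) J (Over.forget U) ((PresheafOfModules.toPresheaf _).map (ModSiteTensor.η O P)))
  asIso ((ModSite.sheafify (O.over U)).map α) ≪≫
    @asIso _ _ _ _ ((PresheafOfModules.sheafificationAdjunction.{u} (R := ModSite.ringSh (O.over U))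
      (𝟙 (ModSite.ringSh (O.over U)).obj)).counit.app _) inferInstance

/-- restriction commutes with the tensor product of presheaves -/
noncomputable def resTensorIso (P Q : ModSiteExt.PM O.obj) :
    (ModSiteExt.res O.obj U).obj (MonoidalCategoryStruct.tensorObj (C := ModSiteExt.PM O.obj) P Q) ≅
      MonoidalCategoryStruct.tensorObj (C := PresheafOfModules.{u} (((Over.forget U).op ⋙ O.obj) ⋙
        forget₂ CommRingCat.{u} RingCat.{u})) ((ModSiteExt.res O.obj U).obj P) ((ModSiteExt.res O.obj U).obj Q) :=
  Iso.refl _

/-- restriction commutes with tensor products -/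
noncomputable def restrTensorIso (F G : ModSite.Mod O) :
    (ModSite.restr O U).obj (((ModSite.tensorBi O).obj F).obj G) ≅
      ((ModSite.tensorBi (O.over U)).obj ((ModSite.restr O U).obj F)).obj ((ModSite.restr O U).obj G) :=
  (restrShIso O U _).symm ≪≫
    (ModSite.sheafify (O.over U)).mapIso (resTensorIso O U ((ModSiteExt.toPM O).obj F) ((ModSiteExt.toPM O).obj G))

end Groth.Agent.ModPerm
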